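import Cfsg.Agent.H4.ITwo.Defs
import Cfsg.Agent.H20.BlockApps
import Cfsg.Agent.H24.CharBasic
import Cfsg.Agent.H21.Inflation
import Cfsg.Agent.H12.Linear

/-!
# Characters of a central cover of order `p` in the principal block
-/

set_option autoImplicit false
set_option linter.style.haveILetI false
set_option linter.unusedSectionVars false

open Cfsg
open scoped ComplexConjugate

namespace H4.ITwo

universe u

variable {G : Type u} [Group G] [Finite G] {p : ℕ} [hp : Fact p.Prime]

/-- Blocks are preserved by isomorphisms. -/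
theorem sameBlock_comp_equiv {A B : Type u} [Group A] [Group B] [Finite A] (e : A ≃* B)
    (M : Ideal AlgInt) (χ ψ : B → ℂ) :
    SameBlock M (χ ∘ e) (ψ ∘ e) ↔ SameBlock M χ ψ := by
  have key : ∀ (φ : B → ℂ) (g : A), centralChar (φ ∘ e) g = centralChar φ (e g) := by
    intro φ g
    have h : (Subgroup.centralizer ({g} : Set A)).index =
        (Subgroup.centralizer ({e g} : Set B)).index := by
      rw [← Subgroup.index_comap_of_surjective (Subgroup.centralizer ({e g} : Set B))
        (f := e.toMonoidHom) e.surjective]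
      congr 1
      ext x
      simp only [Subgroup.mem_comap, Subgroup.mem_centralizer_singleton_iff, MulEquiv.coe_toMonoidHom]
      rw [← map_mul, ← map_mul, e.injective.eq_iff]
    simp only [centralChar, Function.comp_apply, map_one, h]
  constructor
  · intro h g
    obtain ⟨g, rfl⟩ := e.surjective g
    rw [← key, ← key]
    exact h g
  · intro h g
    rw [key, key]
    exact h (e g)

variable (C : Cover p G)

/-- Inflation of a character along the cover. -/
noncomputable def infl (χ : IrrCharacter G) : IrrCharacter C.E :=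
  ⟨(χ : G → ℂ) ∘ C.proj, H12.IsIrrCharacter.comp_surjective χ.2 C.surj⟩

theorem infl_apply (χ : IrrCharacter G) (g : C.E) :
    (infl C χ : C.E → ℂ) g = (χ : G → ℂ) (C.proj g) := rfl

theorem infl_injective : Function.Injective (infl C) := fun χ ψ h =>
  Subtype.ext (funext fun g => by
    obtain ⟨x, rfl⟩ := C.surj g
    exact congrFun (congrArg Subtype.val h) x)

theorem orderOf_ker {z : C.E} (hz : z ∈ C.proj.ker) (hz1 : z ≠ 1) : orderOf z = p := by
  have h := Subgroup.orderOf_dvd_natCard C.proj.ker hz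
  rw [C.card_ker] at h
  exact ((Nat.dvd_prime hp.out).1 h).resolve_left (mt orderOf_eq_one_iff.1 hz1)

theorem exists_gen : ∃ z : C.E, z ∈ C.proj.ker ∧ orderOf z = p ∧
    Subgroup.zpowers z = C.proj.ker := by
  haveI : Nontrivial C.proj.ker :=
    Finite.one_lt_card_iff_nontrivial.1 (by rw [C.card_ker]; exact hp.out.one_lt)
  obtain ⟨z, hz⟩ := exists_ne (1 : C.proj.ker)
  have ho := orderOf_ker C z.2 fun h => hz (Subtype.ext h)
  refine ⟨z, z.2, ho, Subgroup.eq_of_le_of_card_ge (Subgroup.zpowers_le.2 z.2) ?_⟩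
  rw [Nat.card_zpowers, ho, C.card_ker]

variable {M : Ideal AlgInt} [hMp : M.IsPrime]

theorem infl_mem (hM : IsPModular p M) (χ : IrrCharacter G) :
    infl C χ ∈ principalBlock M C.E ↔ χ ∈ principalBlock M G := by
  classical
  haveI := Fintype.ofFinite C.E
  haveI : C.proj.ker.Normal := inferInstance
  let e : C.E ⧸ C.proj.ker ≃* G := QuotientGroup.quotientKerEquivOfSurjective C.proj C.surj
  have hP : IsPGroup p C.proj.ker := IsPGroup.of_card (n := 1) (by rw [C.card_ker, pow_one])
  have hC : ∃ k : ℕ, (Subgroup.centralizer (C.proj.ker : Set C.E)).index = p ^ k := by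
    refine ⟨0, ?_⟩
    rw [pow_zero, Subgroup.index_eq_one, Subgroup.eq_top_iff']
    exact fun g z hz => (Subgroup.mem_center_iff.1 (C.central hz) g).symm
  let χ' : IrrCharacter (C.E ⧸ C.proj.ker) :=
    ⟨(χ : G → ℂ) ∘ e, H12.IsIrrCharacter.comp_surjective χ.2 (f := e.toMonoidHom) e.surjective⟩
  have h1 := H20.inflation_blocks hM C.proj.ker hP hC (H12.oneIrr (C.E ⧸ C.proj.ker)) χ'
  have h2 : (H21.inflate C.proj.ker χ' : C.E → ℂ) = (infl C χ : C.E → ℂ) := rfl
  have h3 := sameBlock_comp_equiv e M (fun _ : G => (1 : ℂ)) (χ : G → ℂ)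
  show SameBlock M (fun _ : C.E => (1 : ℂ)) _ ↔ SameBlock M (fun _ : G => (1 : ℂ)) _
  rw [← h2]
  exact h1.symm.trans h3

/-- The central element acts by a scalar, trivial only for inflated characters, and of order
dividing the degree otherwise. -/
theorem exists_omega {z : C.E} (hz : z ∈ C.proj.ker) (hzo : orderOf z = p)
    (hgen : Subgroup.zpowers z = C.proj.ker) (X : IrrCharacter C.E) :
    ∃ ω : ℂ, ω ^ p = 1 ∧ (∀ (i : ℕ) (g : C.E), (X : C.E → ℂ) (z ^ i * g) = ω ^ i * (X : C.E → ℂ) g) ∧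
      (ω ≠ 1 → p ∣ charDegree (X : C.E → ℂ)) ∧ (ω = 1 ↔ ∃ χ, infl C χ = X) := by
  classical
  haveI := Fintype.ofFinite C.E
  obtain ⟨n, ρ, hρ, hX⟩ := X.2
  haveI := hρ
  obtain ⟨c, hc⟩ := H12.exists_scalar_of_commute ρ (ρ z) fun h => by
    rw [← map_mul, ← map_mul, Subgroup.mem_center_iff.1 (C.central hz) h]
  have hn : 0 < Module.finrank ℂ (Fin n → ℂ) := H12.finrank_pos_of_isIrreducible ρ
  rw [Module.finrank_fin_fun] at hn
  haveI : Nontrivial (Module.End ℂ (Fin n → ℂ)) := by
    haveI : Nonempty (Fin n) := ⟨⟨0, hn⟩⟩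
    infer_instance
  have hpow : ∀ i : ℕ, ρ (z ^ i) = c ^ i • (1 : Module.End ℂ (Fin n → ℂ)) := fun i => by
    rw [map_pow, hc, smul_pow, one_pow]
  have hinj : ∀ a : ℂ, a • (1 : Module.End ℂ (Fin n → ℂ)) = 1 → a = 1 := fun a ha =>
    smul_left_injective ℂ (one_ne_zero (α := Module.End ℂ (Fin n → ℂ))) (ha.trans (one_smul ℂ _).symm)
  have hval : ∀ (i : ℕ) (g : C.E), (X : C.E → ℂ) (z ^ i * g) = c ^ i * (X : C.E → ℂ) g := by
    intro i g
    rw [← hX]
    show LinearMap.trace ℂ _ (ρ (z ^ i * g)) = c ^ i * LinearMap.trace ℂ _ (ρ g)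
    rw [map_mul, hpow, smul_mul_assoc, one_mul, map_smul, smul_eq_mul]
  have hcp : c ^ p = 1 := hinj _ (by rw [← hpow, orderOf_dvd_iff_pow_eq_one.1 hzo.dvd, map_one])
  refine ⟨c, hcp, hval, fun hc1 => ?_, ⟨fun hc1 => ?_, ?_⟩⟩
  · -- the determinant is trivial on commutators
    let D : C.E →* ℂ := (LinearMap.det : Module.End ℂ (Fin n → ℂ) →* ℂ).comp ρ
    have hker : commutator C.E ≤ D.toHomUnits.ker := Abelianization.commutator_subset_ker _
    have hz1 : D z = 1 := by
      have h := hker (C.perfect hz)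
      rw [MonoidHom.mem_ker] at h
      have := congrArg (fun x : ℂˣ => (x : ℂ)) h
      simpa using this
    have hcn : c ^ n = 1 := by
      have h : LinearMap.det (ρ z) = 1 := hz1
      rw [hc, LinearMap.det_smul, Module.finrank_fin_fun, map_one, mul_one] at h
      exact h
    have hdeg : charDegree (X : C.E → ℂ) = n := by
      rw [H20.charDegree_eq_degree, ← hX, H12.degree_character, Module.finrank_fin_fun]
    rw [hdeg]
    have h := pow_gcd_eq_one.2 ⟨hcp, hcn⟩
    rcases (Nat.dvd_prime hp.out).1 (Nat.gcd_dvd_left p n) with hg | hg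
    · rw [hg, pow_one] at h
      exact absurd h hc1
    · exact hg ▸ Nat.gcd_dvd_right p n
  · have hker : ∀ k ∈ C.proj.ker, (X : C.E → ℂ) k = (X : C.E → ℂ) 1 := by
      intro k hk
      rw [← hgen] at hk
      obtain ⟨i, rfl⟩ := (isOfFinOrder_of_finite z).mem_powers_iff_mem_zpowers.2 hk
      have := hval i 1
      rwa [mul_one, hc1, one_pow, one_mul] at this
    obtain ⟨ψ, hψ⟩ := H21.exists_deflate C.proj.ker X hker
    let e : C.E ⧸ C.proj.ker ≃* G := QuotientGroup.quotientKerEquivOfSurjective C.proj C.surj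
    refine ⟨⟨(ψ : C.E ⧸ C.proj.ker → ℂ) ∘ e.symm,
      H12.IsIrrCharacter.comp_surjective ψ.2 (f := e.symm.toMonoidHom) e.symm.surjective⟩, ?_⟩
    rw [← hψ]
    refine Subtype.ext (funext fun g => ?_)
    show (ψ : C.E ⧸ C.proj.ker → ℂ) (e.symm (C.proj g)) = (ψ : C.E ⧸ C.proj.ker → ℂ) g
    have hh : e.symm (C.proj g) = (g : C.E ⧸ C.proj.ker) := by
      rw [MulEquiv.symm_apply_eq]; rfl
    rw [hh]
  · rintro ⟨χ, rfl⟩
    have h := hval 1 1
    rw [pow_one, pow_one, mul_one, infl_apply, infl_apply, MonoidHom.mem_ker.1 hz, map_one] at h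
    exact (mul_eq_right₀ (H12.irr_apply_one_ne_zero χ)).1 h.symm

end H4.ITwo
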