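import Mathlib
import Cfsg.Prelude.Def_Transfer
import Cfsg.Prelude.Def_Local
import Cfsg.Agent.H20.PrincipalFreeApps

/-!
# Interfaces for S3347 (abelian Sylow subgroup with inertial index two)

Route: if every element of `N(P)` centralises or inverts the noncyclic abelian Sylow subgroup `P`,
there is a central extension by a group `Z` of order `p` inside the commutator subgroup (`CoverStmt`,
transfer of a non-zero alternating form on `P`). The characters of the principal block of the
extension with a fixed non-trivial central character have the same first moments as those of the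
principal block of `G`; this forces the non-exceptional character `λ` to be linear or all
involutions to lie in a normal `p'`-subgroup (`DichotomyStmt`).
-/

set_option autoImplicit false

namespace H4.ITwo

universe u

/-- Every element of the normaliser of `P` centralises or inverts `P`, and some inverts it. -/
def Inverted {G : Type u} [Group G] {p : ℕ} (P : Sylow p G) : Prop :=
  (∀ n ∈ Subgroup.normalizer ((P : Subgroup G) : Set G),
    (∀ x ∈ (P : Subgroup G), n * x * n⁻¹ = x) ∨ ∀ x ∈ (P : Subgroup G), n * x * n⁻¹ = x⁻¹) ∧
  ∃ n ∈ Subgroup.normalizer ((P : Subgroup G) : Set G),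
    ∀ x ∈ (P : Subgroup G), n * x * n⁻¹ = x⁻¹

/-- A central extension by a group of order `p` inside the commutator subgroup. -/
structure Cover (p : ℕ) (G : Type u) [Group G] where
  E : Type u
  [grp : Group E]
  [fin : Finite E]
  proj : E →* G
  surj : Function.Surjective proj
  card_ker : Nat.card proj.ker = p
  central : proj.ker ≤ Subgroup.center E
  perfect : proj.ker ≤ commutator E

attribute [instance] Cover.grp Cover.fin

/-- Transfer of an alternating form on a noncyclic abelian Sylow subgroup. -/
def CoverStmt : Prop :=
  ∀ (G : Type u) [Group G] [Finite G] (p : ℕ) [Fact p.Prime], p ≠ 2 →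
    ∀ P : Sylow p G, IsMulCommutative (P : Subgroup G) → ¬ IsCyclic (P : Subgroup G) →
      Inverted P → Nonempty (Cover p G)

/-- A linear character, or all involutions in a normal `p'`-subgroup. -/
def DichotomyStmt : Prop :=
  ∀ (G : Type u) [Group G] [Finite G] (p : ℕ) [Fact p.Prime], p ≠ 2 →
    ∀ P : Sylow p G, IsMulCommutative (P : Subgroup G) → ¬ IsCyclic (P : Subgroup G) →
      Inverted P → Cover p G →
      (∃ f : G →* ℂˣ, f ≠ 1 ∧ ∀ g : G, p ∣ orderOf g → f g = 1) ∨
      (∃ K : Subgroup G, K.Normal ∧ ¬ p ∣ Nat.card K ∧ ∀ t : G, orderOf t = 2 → t ∈ K)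

/-- The statement of S3347, from the two facts above. -/
def MainStmt : Prop :=
  ∀ (G : Type u) [Group G] [Finite G] (p : ℕ) [Fact p.Prime], p ≠ 2 →
    ∀ P : Sylow p G, IsMulCommutative (P : Subgroup G) → ¬ IsCyclic (P : Subgroup G) →
    ((Subgroup.centralizer ((P : Subgroup G) : Set G)).subgroupOf
      (Subgroup.normalizer ((P : Subgroup G) : Set G))).index = 2 →
    Cfsg.pResidual p G ≠ ⊤ ∨ Cfsg.PLengthLE p 1 G

end H4.ITwo
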