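import Cfsg.Agent.H4.ITwo.Moments
import Cfsg.Agent.H4.ITwo.CoverChar
import Cfsg.Agent.H4.CSy.PBlock
import Cfsg.Agent.H22.ValueMod
import Cfsg.Agent.H12.Transport

/-!
# A linear character, or all involutions in a normal `p'`-subgroup
-/

set_option autoImplicit false
set_option linter.style.haveILetI false
set_option linter.unusedSectionVars false

open Cfsg
open scoped ComplexConjugate

namespace H4.ITwo

universe u

variable {G : Type u} [Group G] [Fintype G] {p : ℕ} [hp : Fact p.Prime]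

theorem inv_ne_self (hp2 : p ≠ 2) {x : G} {P : Sylow p G} (hx : x ∈ (P : Subgroup G)) (hx1 : x ≠ 1) :
    x⁻¹ ≠ x := by
  intro h
  have h2 : x * x = 1 := by nth_rewrite 2 [← h]; exact mul_inv_cancel x
  exact hp2 ((Nat.prime_dvd_prime_iff_eq hp.out Nat.prime_two).1
    ((H20.FreeSylow.dvd_orderOf hx hx1).trans (orderOf_dvd_of_pow_eq_one (by rw [pow_two, h2]))))

theorem freeSylow_inverted (hp2 : p ≠ 2) {P : Sylow p G}
    (hab : IsMulCommutative (P : Subgroup G)) (hI : Inverted P) : H20.FreeSylow P := by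
  refine ⟨fun a ha b hb => congrArg Subtype.val (hab.is_comm.comm ⟨a, ha⟩ ⟨b, hb⟩),
    fun y hy hy1 g hg x hx => ?_⟩
  rcases hI.1 g hg.2 with h | h
  · exact (mul_inv_eq_iff_eq_mul.1 (h x hx)).symm
  · exfalso
    have h1 := h y hy
    rw [Subgroup.mem_centralizer_singleton_iff.1 hg.1, mul_inv_cancel_right] at h1
    exact inv_ne_self hp2 hy hy1 h1.symm

theorem card_autG_inverted (hp2 : p ≠ 2) {P : Sylow p G} (hI : Inverted P)
    [Nontrivial (P : Subgroup G)] : Nat.card (H20.autG (P : Subgroup G)) = 2 := by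
  classical
  obtain ⟨n₀, hn₀, hinv⟩ := hI.2
  obtain ⟨x, hx⟩ := exists_ne (1 : (P : Subgroup G))
  let a₀ : H20.autG (P : Subgroup G) := ⟨_, MonoidHom.mem_range.2 ⟨⟨n₀, hn₀⟩, rfl⟩⟩
  have hval : ∀ v : (P : Subgroup G), (a₀ : MulAut (P : Subgroup G)) v = v⁻¹ := fun v =>
    Subtype.ext (hinv v v.2)
  have h01 : (1 : H20.autG (P : Subgroup G)) ≠ a₀ := fun h => by
    have h1 := hval x
    rw [← h, Subgroup.coe_one, MulAut.one_apply] at h1
    exact inv_ne_self hp2 x.2 (fun h' => hx (Subtype.ext h')) (congrArg Subtype.val h1).symm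
  refine Nat.card_eq_two_iff.2 ⟨1, a₀, h01, Set.eq_univ_of_forall fun a => ?_⟩
  obtain ⟨⟨n, hn⟩, hna⟩ := MonoidHom.mem_range.1 a.2
  rcases hI.1 n hn with h | h
  · left
    refine Subtype.ext (MulEquiv.ext fun v => ?_)
    rw [← hna, Subgroup.coe_one, MulAut.one_apply]
    exact Subtype.ext (h v v.2)
  · right
    refine Subtype.ext (MulEquiv.ext fun v => ?_)
    rw [hval, ← hna]
    exact Subtype.ext (h v v.2)

/-- Separation of a family by roots of unity. -/
theorem sum_filter_eq_of_twist {ι : Type*} (s : Finset ι) (ω f : ι → ℂ) (hω : ∀ x ∈ s, ω x ^ p = 1)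
    (h0 : ∀ i : ℕ, 0 < i → i < p → ∑ x ∈ s, ω x ^ i * f x = 0) {c : ℂ} (hc : c ^ p = 1) :
    (p : ℂ) * ∑ x ∈ s.filter (fun x => ω x = c), f x = ∑ x ∈ s, f x := by
  classical
  have hc0 : c ≠ 0 := fun h => by rw [h, zero_pow hp.out.ne_zero] at hc; exact zero_ne_one hc
  have hgeom : ∀ x ∈ s, ∑ i ∈ Finset.range p, (ω x / c) ^ i = if ω x = c then (p : ℂ) else 0 := by
    intro x hx
    split_ifs with h
    · simp [h, hc0]
    · have hne : ω x / c ≠ 1 := fun h1 => h (by rwa [div_eq_one_iff_eq hc0] at h1)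
      rw [geom_sum_eq hne, div_pow, hω x hx, hc, div_one, sub_self, zero_div]
  have key : ∑ x ∈ s, (∑ i ∈ Finset.range p, (ω x / c) ^ i) * f x = ∑ x ∈ s, f x := by
    simp only [Finset.sum_mul]
    rw [Finset.sum_comm, Finset.sum_eq_single 0]
    · simp
    · intro i hi hi0
      have := h0 i (Nat.pos_of_ne_zero hi0) (Finset.mem_range.1 hi)
      rw [Finset.sum_congr rfl (g := fun x => (c ^ i)⁻¹ * (ω x ^ i * f x)) (fun x _ => by
        rw [div_pow]; ring), ← Finset.mul_sum, this, mul_zero]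
    · intro h
      exact absurd (Finset.mem_range.2 hp.out.pos) h
  rw [← key, Finset.mul_sum, Finset.sum_filter]
  refine Finset.sum_congr rfl fun x hx => ?_
  rw [hgeom x hx]
  split_ifs <;> simp

variable {M : Ideal AlgInt} [hMp : M.IsPrime]

/-- The moments of the faithful part of the principal block of a cover give a contradiction. -/
theorem false_of_cover (hM : IsPModular p M) (hp2 : p ≠ 2) {P : Sylow p G} [Fintype (P : Subgroup G)]
    (h : H20.FreeSylow P) (he : Nat.card (H20.autG (P : Subgroup G)) = 2)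
    (D : H20.FreeData M (P : Subgroup G)) {l : IrrCharacter G} (hl1 : l ≠ H12.oneIrr G)
    (hD0 : ∀ η ∈ D.Y, D.b η = 0) (hX : principalBlock M G \ D.Y = {H12.oneIrr G, l})
    (hb1 : D.b (H12.oneIrr G) = -1) (hbl : D.b l = 1 ∨ D.b l = -1)
    (C : Cover p G) {k : ℕ} (hk : Nat.card (P : Subgroup G) = p ^ k) (hk2 : 2 ≤ k)
    (hne : -D.b l * (charDegree (l : G → ℂ) : ℤ) ≠ 1) {t : G} (ht : orderOf t = 2)
    (htl : (l : G → ℂ) t ≠ (l : G → ℂ) 1) : False := by
  classical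
  haveI := Fintype.ofFinite C.E
  have hp3 : 3 ≤ p := by have := hp.out.two_le; omega
  obtain ⟨z, hz, hzo, hgen⟩ := exists_gen C
  choose ω hωp hωmul hωdeg hωinfl using exists_omega C hz hzo hgen
  -- an involution over `t`
  obtain ⟨e₀, he₀⟩ := C.surj t
  have hodd : Odd p := hp.out.odd_of_ne_two hp2
  have htp : t ^ p = t := by
    obtain ⟨j, hj⟩ := hodd
    rw [hj, pow_add, pow_mul, pow_one, orderOf_dvd_iff_pow_eq_one.1 ht.dvd, one_pow, one_mul]
  set t' := e₀ ^ p with ht'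
  have hπt : C.proj t' = t := by rw [ht', map_pow, he₀, htp]
  have ht1 : t ≠ 1 := fun h1 => by rw [h1, orderOf_one] at ht; omega
  have ht'2 : orderOf t' = 2 := by
    refine orderOf_eq_prime ?_ fun h1 => ht1 (by rw [← hπt, h1, map_one])
    have hk0 : e₀ ^ 2 ∈ C.proj.ker := by
      rw [MonoidHom.mem_ker, map_pow, he₀, orderOf_dvd_iff_pow_eq_one.1 ht.dvd]
    rw [ht', ← pow_mul, mul_comm, pow_mul]
    exact orderOf_dvd_iff_pow_eq_one.1 ((Subgroup.orderOf_dvd_natCard _ hk0).trans C.card_ker.dvd)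
  have htreg : ¬ p ∣ orderOf t := by
    rw [ht]; exact fun hd => hp2 ((Nat.prime_dvd_prime_iff_eq hp.out Nat.prime_two).1 hd)
  have ht'reg : ¬ p ∣ orderOf t' := by rw [ht'2]; rwa [ht] at htreg
  have h1reg : ¬ p ∣ orderOf (1 : C.E) := by simp [hp.out.ne_one]
  choose TE hTE using fun X : IrrCharacter C.E => H20.irr_involution X ht'2
  let dE : IrrCharacter C.E → ℕ := fun X => charDegree (X : C.E → ℂ)
  have hdE : ∀ X : IrrCharacter C.E, (X : C.E → ℂ) 1 = (dE X : ℂ) := fun X => by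
    simp only [dE]; rw [H12.irr_apply_one, H20.charDegree_eq_degree]
  have hdEpos : ∀ X : IrrCharacter C.E, (dE X : ℂ) ≠ 0 := fun X => by
    rw [← hdE]; exact H12.irr_apply_one_ne_zero X
  set S := (principalBlock M C.E).toFinite.toFinset with hS
  -- powers of `z`
  have hzi : ∀ i : ℕ, 0 < i → i < p → (∀ g : C.E, Commute (z ^ i) g) ∧ orderOf (z ^ i) = p ∧
      ∀ g : C.E, ¬ p ∣ orderOf g → p ∣ orderOf (z ^ i * g) := by
    intro i hi0 hip
    have hmem : z ^ i ∈ C.proj.ker := pow_mem hz i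
    have hcen : ∀ g : C.E, Commute (z ^ i) g := fun g =>
      (Subgroup.mem_center_iff.1 (C.central hmem) g).symm
    have hne1 : z ^ i ≠ 1 := fun h1 => by
      have := Nat.le_of_dvd hi0 (hzo ▸ orderOf_dvd_of_pow_eq_one h1)
      omega
    refine ⟨hcen, orderOf_ker C hmem hne1, fun g hg => ?_⟩
    rw [(hcen g).orderOf_mul_eq_mul_orderOf_of_coprime (by
      rw [orderOf_ker C hmem hne1]; exact hp.out.coprime_iff_not_dvd.2 hg),
      orderOf_ker C hmem hne1]
    exact dvd_mul_right p _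
  have hweak : ∀ (y : C.E) (v : IrrCharacter C.E → ℤ), ¬ p ∣ orderOf y →
      (∀ X : IrrCharacter C.E, (X : C.E → ℂ) y = (v X : ℂ)) →
      ∀ i : ℕ, 0 < i → i < p → ∑ X ∈ S, ω X ^ i * ((dE X : ℂ) * (v X : ℂ)) = 0 := by
    intro y v hy hv i hi0 hip
    have h1 := H20.weak_orthogonality hM (H20.isPBlock_principalBlock (M := M) (G := C.E)) h1reg
      ((hzi i hi0 hip).2.2 y hy)
    rw [finsum_mem_eq_finite_toFinset_sum _ (Set.toFinite _)] at h1
    have h2 := congrArg conj h1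
    rw [map_sum, map_zero] at h2
    rw [← h2]
    refine Finset.sum_congr rfl fun X _ => ?_
    rw [map_mul, Complex.conj_conj, hωmul X i y, hv, hdE, Complex.conj_natCast]
    ring
  have hsect : ∀ (y : C.E) (v : IrrCharacter C.E → ℤ), ¬ p ∣ orderOf y →
      (∀ X : IrrCharacter C.E, (X : C.E → ℂ) y = (v X : ℂ)) →
      ∀ i : ℕ, 0 < i → i < p →
        ∑ X ∈ S, ω X ^ i * ((TE X : ℂ) ^ 2 / (dE X : ℂ) * (v X : ℂ)) = 0 := by
    intro y v hy hv i hi0 hip
    obtain ⟨hcen, hord, -⟩ := hzi i hi0 hip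
    haveI : Fintype (Subgroup.centralizer ({z ^ i} : Set C.E)) := Fintype.ofFinite _
    have hzk : ∃ j : ℕ, orderOf (z ^ i) = p ^ j := ⟨1, by rw [hord, pow_one]⟩
    have h1 := H20.principal_section_zero hM hzk
      (fun X : IrrCharacter C.E => (TE X : ℂ) ^ 2 / (dE X : ℂ)) (fun c hc => ?_)
      ⟨y, Subgroup.mem_centralizer_singleton_iff.2 (hcen y).symm⟩ (by rwa [Subgroup.orderOf_mk])
    · rw [finsum_mem_eq_finite_toFinset_sum _ (Set.toFinite _)] at h1
      rw [← h1]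
      refine Finset.sum_congr rfl fun X _ => ?_
      show _ = _ * (X : C.E → ℂ) (z ^ i * y)
      rw [hωmul, hv]
      ring
    · -- no two involutions have product in the section of `z ^ i`
      rw [← Subgroup.orderOf_coe] at hc
      have hzero : H24.classMult t' t' ((z ^ i * (c : C.E))⁻¹) = 0 := by
        rw [H24.classMult, Nat.card_eq_zero]
        refine Or.inl ⟨fun ⟨⟨a, b⟩, hta, htb, hab⟩ => ?_⟩
        change a * b = _ at hab
        change IsConj t' a at hta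
        change IsConj t' b at htb
        have hoa : orderOf a = 2 := by
          obtain ⟨g, hg⟩ := isConj_iff.1 hta
          rw [← hg, H20.orderOf_conj', ht'2]
        have hob : orderOf b = 2 := by
          obtain ⟨g, hg⟩ := isConj_iff.1 htb
          rw [← hg, H20.orderOf_conj', ht'2]
        have h2 := congrArg (H20.pPart p) (H4.CSy.conj_prod_inv hoa hob).1
        rw [hab, inv_inv, H20.pPart_conj, H20.pPart_inv,
          ← (H20.isPPart_unique' (p := p) rfl (hcen (c : C.E)) hzk hc).1,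
          ← ((hcen a).inv_left).eq, mul_inv_cancel_right] at h2
        have h3 : z ^ i * z ^ i = 1 := by nth_rewrite 1 [← h2]; exact inv_mul_cancel _
        have h4 : p ∣ 2 := hord ▸ orderOf_dvd_of_pow_eq_one (by rw [pow_two, h3])
        exact hp2 ((Nat.prime_dvd_prime_iff_eq hp.out Nat.prime_two).1 h4)
      have h2 := H24.classMult_eq t' t' ((z ^ i * (c : C.E))⁻¹)
      rw [hzero, Nat.cast_zero, zero_mul, eq_comm, mul_eq_zero] at h2
      replace h2 := h2.resolve_left (mul_ne_zero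
        (Nat.cast_ne_zero.2 Subgroup.index_ne_zero_of_finite)
        (Nat.cast_ne_zero.2 Subgroup.index_ne_zero_of_finite))
      rw [← h2]
      refine Finset.sum_congr rfl fun X _ => ?_
      rw [H20.conj_irr_eq, inv_inv, (hTE X).1, hdE]
      ring
  -- the principal block of `G`
  set q := Nat.card (P : Subgroup G) with hq
  have hq3 : 3 ≤ q := by
    rw [hk]
    calc 3 ≤ p ^ 1 := by rw [pow_one]; exact hp3
      _ ≤ p ^ k := Nat.pow_le_pow_right (by omega) (by omega)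
  have hoX : H12.oneIrr G ∈ principalBlock M G \ D.Y := by rw [hX]; exact Or.inl rfl
  have hlX : l ∈ principalBlock M G \ D.Y := by rw [hX]; exact Or.inr rfl
  haveI : Nontrivial (P : Subgroup G) := Finite.one_lt_card_iff_nontrivial.1 (by omega)
  obtain ⟨ψ, hψ⟩ := H20.exists_ne_one_of_one_lt (A := (P : Subgroup G))
    (fun a b => Subtype.ext (h.comm a a.2 b b.2)) (by omega)
  have hη : D.ζ ψ ∈ D.Y := ⟨ψ, hψ, rfl⟩
  obtain ⟨nl, hnl, -⟩ := H20.irr_involution l ht
  obtain ⟨nη, hnη, -⟩ := H20.irr_involution (D.ζ ψ) ht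
  set dl := charDegree (l : G → ℂ) with hdl
  set dη := charDegree (D.ζ ψ : G → ℂ) with hdη
  set r := Nat.card D.Y with hr
  have hr2 : r * 2 + 1 = q := by rw [hr, hq, ← he]; exact D.card_Y h
  have hdeg : ∀ χ : IrrCharacter G, (χ : G → ℂ) 1 = (charDegree (χ : G → ℂ) : ℂ) := fun χ => by
    rw [H12.irr_apply_one, H20.charDegree_eq_degree]
  have hdl0 : dl ≠ 0 := by rw [hdl, H20.charDegree_eq_degree]; exact (H12.irr_degree_pos _).ne'
  have hdη0 : dη ≠ 0 := by rw [hdη, H20.charDegree_eq_degree]; exact (H12.irr_degree_pos _).ne'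
  have hrel : ∀ g : G, ¬ p ∣ orderOf g →
      1 + ((-D.b l : ℤ) : ℂ) * (l : G → ℂ) g = (D.δ : ℂ) * (D.ζ ψ : G → ℂ) g := by
    intro g hg
    have h1 := D.regular_relation hM hη hg
    rw [hD0 _ hη, hX, finsum_mem_pair (Ne.symm hl1), hb1, H12.oneIrr_apply] at h1
    push_cast at h1 ⊢
    linear_combination -h1
  have hA : 1 + -D.b l * nl = D.δ * nη := by
    have h1 := hrel t htreg
    rw [hnl, hnη] at h1
    exact_mod_cast h1
  have hB : 1 + -D.b l * (dl : ℤ) = D.δ * (dη : ℤ) := by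
    have h1 := hrel 1 (by simp [hp.out.ne_one])
    rw [hdeg, hdeg, ← hdl, ← hdη] at h1
    exact_mod_cast h1
  have hBlk : (principalBlock M G).toFinite.toFinset =
      ({H12.oneIrr G, l} : Finset (IrrCharacter G)) ∪ D.Y.toFinite.toFinset := by
    ext χ
    simp only [Set.Finite.mem_toFinset, Finset.mem_union, Finset.mem_insert, Finset.mem_singleton]
    constructor
    · intro hχ
      by_cases hY : χ ∈ D.Y
      · exact Or.inr hY
      · have h1 : χ ∈ principalBlock M G \ D.Y := ⟨hχ, hY⟩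
        rw [hX] at h1
        exact Or.inl h1
    · rintro ((rfl | rfl) | h1)
      · exact hoX.1
      · exact hlX.1
      · exact D.Y_subset h1
  have hdisj : Disjoint ({H12.oneIrr G, l} : Finset (IrrCharacter G)) D.Y.toFinite.toFinset := by
    rw [Finset.disjoint_left]
    intro χ hχ hχY
    simp only [Finset.mem_insert, Finset.mem_singleton] at hχ
    have hχY' := (Set.Finite.mem_toFinset _).1 hχY
    rcases hχ with rfl | rfl
    · exact hoX.2 hχY'
    · exact hlX.2 hχY'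
  -- moments: faithful part against `G`
  obtain ⟨c, hc, hc1⟩ : ∃ c : ℂ, c ^ p = 1 ∧ c ≠ 1 :=
    ⟨_, (Complex.isPrimitiveRoot_exp p hp.out.ne_zero).pow_eq_one,
      (Complex.isPrimitiveRoot_exp p hp.out.ne_zero).ne_one hp.out.one_lt⟩
  have hmoment : ∀ (Φ : ℂ → ℂ → ℂ),
      (∀ i : ℕ, 0 < i → i < p → ∑ X ∈ S, ω X ^ i * Φ (dE X : ℂ) (TE X : ℂ) = 0) →
      ∑ X ∈ S.filter (fun X => ω X = c), Φ (dE X : ℂ) (TE X : ℂ) =
        Φ 1 1 + Φ (dl : ℂ) (nl : ℂ) + (r : ℂ) * Φ (dη : ℂ) (nη : ℂ) := by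
    intro Φ hΦ
    have hp0 : (p : ℂ) ≠ 0 := Nat.cast_ne_zero.2 hp.out.ne_zero
    have h1 := sum_filter_eq_of_twist (p := p) S ω _ (fun X _ => hωp X) hΦ hc
    have h2 := sum_filter_eq_of_twist (p := p) S ω _ (fun X _ => hωp X) hΦ (one_pow p)
    rw [mul_left_cancel₀ hp0 (h1.trans h2.symm)]
    have himg : S.filter (fun X => ω X = 1) =
        (principalBlock M G).toFinite.toFinset.image (infl C) := by
      ext X
      simp only [hS, Finset.mem_filter, Finset.mem_image, Set.Finite.mem_toFinset, hωinfl X]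
      constructor
      · rintro ⟨hXB, χ, rfl⟩
        exact ⟨χ, (infl_mem C hM χ).1 hXB, rfl⟩
      · rintro ⟨χ, hχ, rfl⟩
        exact ⟨(infl_mem C hM χ).2 hχ, χ, rfl⟩
    have hval : ∀ (χ : IrrCharacter G) (n : ℤ), (χ : G → ℂ) t = (n : ℂ) →
        Φ (dE (infl C χ) : ℂ) (TE (infl C χ) : ℂ) = Φ (charDegree (χ : G → ℂ) : ℂ) (n : ℂ) := by
      intro χ n hn
      rw [← hdE, ← (hTE (infl C χ)).1, infl_apply, infl_apply, map_one, hπt, hn, hdeg]
    rw [himg, Finset.sum_image (fun a _ b _ hab => infl_injective C hab), hBlk,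
      Finset.sum_union hdisj, Finset.sum_pair (Ne.symm hl1),
      hval (H12.oneIrr G) 1 (by rw [H12.oneIrr_apply, Int.cast_one]), hval l nl hnl,
      Finset.sum_congr rfl (g := fun _ => Φ (dη : ℂ) (nη : ℂ)) (fun χ hχ => ?_), Finset.sum_const,
      ← Set.ncard_eq_toFinset_card _, ← Nat.card_coe_set_eq, ← hr, nsmul_eq_mul, ← hdl]
    · rw [show (charDegree (H12.oneIrr G : G → ℂ) : ℂ) = 1 by
        rw [← hdeg, H12.oneIrr_apply], Int.cast_one]
    · have hχY := (Set.Finite.mem_toFinset _).1 hχ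
      have h3 := D.apply_regular hM hχY hη htreg
      have h4 := D.apply_regular hM hχY hη (g := (1 : G)) (by simp [hp.out.ne_one])
      rw [hdeg, hdeg, ← hdη] at h4
      rw [hval χ nη (h3.trans hnη), h4]
  have hδ : D.δ ^ 2 = 1 := by rcases D.δ_eq with h' | h' <;> rw [h'] <;> norm_num
  set F := S.filter (fun X => ω X = c) with hF
  have m1 := hmoment (fun d _ => d ^ 2) (fun i h0 h1 => by
    have := hweak 1 (fun X => (dE X : ℤ)) h1reg (fun X => by rw [hdE]; push_cast; rfl) i h0 h1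
    rw [← this]
    refine Finset.sum_congr rfl fun X _ => ?_
    push_cast; ring)
  have m2 := hmoment (fun d T => d * T) (fun i h0 h1 =>
    hweak t' TE ht'reg (fun X => (hTE X).1) i h0 h1)
  have m3 := hmoment (fun _ T => T ^ 2) (fun i h0 h1 => by
    have := hsect 1 (fun X => (dE X : ℤ)) h1reg (fun X => by rw [hdE]; push_cast; rfl) i h0 h1
    rw [← this]
    refine Finset.sum_congr rfl fun X _ => ?_
    push_cast
    rw [div_mul_cancel₀ _ (hdEpos X)])
  have m4 := hmoment (fun d T => T ^ 3 / d) (fun i h0 h1 => by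
    have := hsect t' TE ht'reg (fun X => (hTE X).1) i h0 h1
    rw [← this]
    refine Finset.sum_congr rfl fun X _ => ?_
    ring)
  -- over the reals
  set b : ℤ := -D.b l * (dl : ℤ) with hb
  set a : ℤ := -D.b l * nl with ha
  have hs2 : D.b l ^ 2 = 1 := by rcases hbl with h' | h' <;> rw [h'] <;> norm_num
  have hb0 : b ≠ 0 := mul_ne_zero (by omega) (Nat.cast_ne_zero.2 hdl0)
  have hB0 : 1 + b ≠ 0 := by
    rw [hB]; exact mul_ne_zero (by rcases D.δ_eq with h' | h' <;> omega) (Nat.cast_ne_zero.2 hdη0)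
  have hab : a ≠ b := fun hab => by
    have h1 : nl = (dl : ℤ) := mul_left_cancel₀ (by omega : -D.b l ≠ 0) hab
    exact htl (by rw [hnl, hdeg, ← hdl, h1, Int.cast_natCast])
  have hqb : (q : ℤ) ∣ b - 1 := by
    have h1 := H4.CSy.card_dvd_degree_sub (P := P) l (s := -D.b l) (fun u hu hu1 =>
      H4.CSy.nonexceptional_singular h hM D hlX (H20.FreeSylow.dvd_orderOf hu hu1))
    rw [show b - 1 = -D.b l * ((dl : ℤ) - -D.b l) by rw [hb]; linear_combination hs2]
    exact dvd_mul_of_dvd_right h1 _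
  set sR : ℝ := ((-D.b l : ℤ) : ℝ) with hsR
  set εR : ℝ := (D.δ : ℝ) with hεR
  have hsR2 : sR ^ 2 = 1 := by
    rw [hsR]; exact_mod_cast (show (-D.b l) ^ 2 = 1 by linear_combination hs2)
  have hεR2 : εR ^ 2 = 1 := by rw [hεR]; exact_mod_cast hδ
  have haR : (a : ℝ) = sR * (nl : ℝ) := by rw [ha, hsR]; push_cast; ring
  have hbR : (b : ℝ) = sR * (dl : ℝ) := by rw [hb, hsR]; push_cast; ring
  have hAR : 1 + (a : ℝ) = εR * (nη : ℝ) := by rw [hεR]; exact_mod_cast hA
  have hBR : 1 + (b : ℝ) = εR * (dη : ℝ) := by rw [hεR]; exact_mod_cast hB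
  have hdlR : (dl : ℝ) ≠ 0 := Nat.cast_ne_zero.2 hdl0
  have hdηR : (dη : ℝ) ≠ 0 := Nat.cast_ne_zero.2 hdη0
  have r1 : ∑ X ∈ F, (dE X : ℝ) ^ 2 = 1 + (dl : ℝ) ^ 2 + (r : ℝ) * (dη : ℝ) ^ 2 := by
    apply Complex.ofReal_injective
    push_cast
    rw [m1]; ring
  have r2 : ∑ X ∈ F, (dE X : ℝ) * (TE X : ℝ) =
      1 + (dl : ℝ) * (nl : ℝ) + (r : ℝ) * ((dη : ℝ) * (nη : ℝ)) := by
    apply Complex.ofReal_injective
    push_cast
    rw [m2]; ring
  have r3 : ∑ X ∈ F, (TE X : ℝ) ^ 2 = 1 + (nl : ℝ) ^ 2 + (r : ℝ) * (nη : ℝ) ^ 2 := by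
    apply Complex.ofReal_injective
    push_cast
    rw [m3]; ring
  have r4 : ∑ X ∈ F, (TE X : ℝ) ^ 3 / (dE X : ℝ) =
      1 + (nl : ℝ) ^ 3 / (dl : ℝ) + (r : ℝ) * ((nη : ℝ) ^ 3 / (dη : ℝ)) := by
    apply Complex.ofReal_injective
    push_cast
    rw [m4]; ring
  have e1 : (dl : ℝ) ^ 2 = (b : ℝ) ^ 2 ∧ (dη : ℝ) ^ 2 = (1 + (b : ℝ)) ^ 2 ∧
      (nl : ℝ) ^ 2 = (a : ℝ) ^ 2 ∧ (nη : ℝ) ^ 2 = (1 + (a : ℝ)) ^ 2 ∧
      (dl : ℝ) * (nl : ℝ) = (a : ℝ) * (b : ℝ) ∧
      (dη : ℝ) * (nη : ℝ) = (1 + (a : ℝ)) * (1 + (b : ℝ)) := by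
    rw [hAR, hBR, haR, hbR]
    refine ⟨?_, ?_, ?_, ?_, ?_, ?_⟩
    · rw [mul_pow, hsR2, one_mul]
    · rw [mul_pow, hεR2, one_mul]
    · rw [mul_pow, hsR2, one_mul]
    · rw [mul_pow, hεR2, one_mul]
    · linear_combination (-(dl : ℝ) * nl) * hsR2
    · linear_combination (-(dη : ℝ) * nη) * hεR2
  have e2 : (nl : ℝ) ^ 3 / (dl : ℝ) = (a : ℝ) ^ 3 / (b : ℝ) := by
    have hs0 : sR ≠ 0 := fun h0 => by rw [h0] at hsR2; norm_num at hsR2
    rw [haR, hbR, div_eq_div_iff hdlR (mul_ne_zero hs0 hdlR)]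
    linear_combination (-(nl : ℝ) ^ 3 * dl * sR) * hsR2
  have e3 : (nη : ℝ) ^ 3 / (dη : ℝ) = (1 + (a : ℝ)) ^ 3 / (1 + (b : ℝ)) := by
    have hs0 : εR ≠ 0 := fun h0 => by rw [h0] at hεR2; norm_num at hεR2
    rw [hAR, hBR, div_eq_div_iff hdηR (mul_ne_zero hs0 hdηR)]
    linear_combination (-(nη : ℝ) ^ 3 * dη * εR) * hεR2
  obtain ⟨e11, e12, e13, e14, e15, e16⟩ := e1
  rw [e11, e12] at r1
  rw [e15, e16] at r2
  rw [e13, e14] at r3
  rw [e2, e3] at r4
  have hdF : ∀ X ∈ F, (dE X : ℝ) ≠ 0 := fun X _ => by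
    have := hdEpos X
    exact_mod_cast this
  obtain ⟨q2, q1, q3⟩ := moments_of_eq F (fun X => (TE X : ℝ)) (fun X => (dE X : ℝ))
    (a := (a : ℝ)) (b := (b : ℝ)) (r := (r : ℝ)) (by exact_mod_cast hb0) (by exact_mod_cast hB0)
    (by exact_mod_cast hab) hdF r1 r2 r3 r4
  refine moments_false F _ _ hp.out hp2 hk hk2 hqb hb0 hne (fun X hX => ?_) q2 q1 q3 ?_
  · have h1 : p ∣ dE X := hωdeg X (by rw [(Finset.mem_filter.1 hX).2]; exact hc1)
    have h2 : p ≤ dE X := Nat.le_of_dvd (Nat.pos_of_ne_zero fun h0 => hdEpos X (by simp [h0])) h1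
    exact_mod_cast h2
  · rw [r1]
    have h3 : (q : ℝ) = (r : ℝ) * 2 + 1 := by exact_mod_cast hr2.symm
    rw [h3]; ring

theorem dichotomy : DichotomyStmt.{u} := by
  intro G _ _ p _ hp2 P hab hnc hI C
  classical
  haveI := Fintype.ofFinite G
  haveI : Fintype (P : Subgroup G) := Fintype.ofFinite _
  obtain ⟨k, hk⟩ := IsPGroup.iff_card.1 P.isPGroup'
  have hk2 : 2 ≤ k := by
    by_contra hlt
    refine hnc ?_
    rcases (show k = 0 ∨ k = 1 by omega) with rfl | rfl
    · haveI : Subsingleton (P : Subgroup G) :=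
        Finite.card_le_one_iff_subsingleton.1 (by rw [hk, pow_zero])
      exact isCyclic_of_subsingleton
    · rw [pow_one] at hk
      exact isCyclic_of_prime_card hk
  have hp3 : 3 ≤ p := by have := (Fact.out : p.Prime).two_le; omega
  have hq : 1 < Nat.card (P : Subgroup G) := by
    rw [hk]; exact Nat.one_lt_pow (by omega) (by omega)
  haveI : Nontrivial (P : Subgroup G) := Finite.one_lt_card_iff_nontrivial.1 hq
  obtain ⟨M, hM⟩ := H22.exists_isPModular p (Fact.out : p.Prime)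
  haveI : M.IsPrime := hM.2.1.isPrime
  have h := freeSylow_inverted hp2 hab hI
  have he := card_autG_inverted hp2 (P := P) hI
  obtain ⟨D, l, hl1, hD0, hX, hb1, hbl⟩ := H4.CSy.exists_two h hM hp2 he
  have hlX : l ∈ principalBlock M G \ D.Y := by rw [hX]; exact Or.inr rfl
  have hsing : ∀ g : G, p ∣ orderOf g → (l : G → ℂ) g = ((-D.b l : ℤ) : ℂ) := fun g hg =>
    H4.CSy.nonexceptional_singular h hM D hlX hg
  have hdeg : (l : G → ℂ) 1 = (charDegree (l : G → ℂ) : ℂ) := by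
    rw [H12.irr_apply_one, H20.charDegree_eq_degree]
  by_cases hne : -D.b l * (charDegree (l : G → ℂ) : ℤ) = 1
  · left
    have hpos : 0 < (charDegree (l : G → ℂ) : ℤ) := by
      rw [H20.charDegree_eq_degree]; exact_mod_cast H12.irr_degree_pos l
    have hs : -D.b l = 1 := by
      rcases hbl with h' | h' <;> rw [h'] at hne ⊢ <;> omega
    have hd : (charDegree (l : G → ℂ) : ℤ) = 1 := by rwa [hs, one_mul] at hne
    obtain ⟨f, hf⟩ := H12.exists_monoidHom_of_apply_one_eq_one (H12.isCharacter_irr l)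
      (by rw [hdeg, show charDegree (l : G → ℂ) = 1 by exact_mod_cast hd, Nat.cast_one])
    refine ⟨f, fun hf1 => hl1 (Subtype.ext (funext fun g => ?_)), fun g hg => Units.ext ?_⟩
    · rw [H12.oneIrr_apply, ← congrFun hf g, hf1]
      rfl
    · rw [congrFun hf g, hsing g hg, hs, Int.cast_one, Units.val_one]
  · right
    refine ⟨H12.charKer (l : G → ℂ) (H12.isCharacter_irr l), H12.charKer_normal _, fun hd => ?_,
      fun t ht => ?_⟩
    · obtain ⟨u, hu⟩ := exists_prime_orderOf_dvd_card' p hd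
      have h1 := (H12.mem_charKer _).1 u.2
      rw [hsing _ (by rw [Subgroup.orderOf_coe, hu]), hdeg] at h1
      have h2 : -D.b l = (charDegree (l : G → ℂ) : ℤ) := by exact_mod_cast h1
      apply hne
      rw [← h2]
      rcases hbl with h' | h' <;> rw [h'] <;> norm_num
    · rw [H12.mem_charKer]
      by_contra htl
      exact false_of_cover hM hp2 h he D hl1 hD0 hX hb1 hbl C hk hk2 hne ht htl

end H4.ITwo
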