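import Mathlib

/-!
# The four moments of the faithful characters are incompatible with a non-linear `λ`
-/

set_option autoImplicit false

namespace H4.ITwo

open Finset

variable {ι : Type*}

/-- The arithmetical contradiction. -/
theorem moments_false (s : Finset ι) (w d : ι → ℝ) {p q k : ℕ} (hp : p.Prime) (hp2 : p ≠ 2)
    (hq : q = p ^ k) (hk : 2 ≤ k) {b : ℤ} (hb : (q : ℤ) ∣ b - 1) (hb0 : b ≠ 0) (hb1 : b ≠ 1)
    (hd : ∀ i ∈ s, (p : ℝ) ≤ d i) (h2 : ∑ i ∈ s, w i ^ 2 = 2)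
    (h1 : ∑ i ∈ s, w i * d i = 1 - (b : ℝ))
    (h3 : ∑ i ∈ s, w i ^ 3 / d i = 1 - 1 / (b : ℝ))
    (hdd : ∑ i ∈ s, d i ^ 2 = 1 + (b : ℝ) ^ 2 + ((q : ℝ) - 1) / 2 * (1 + (b : ℝ)) ^ 2) : False := by
  classical
  have hp3 : 3 ≤ p := by have := hp.two_le; omega
  have hd3 : ∀ i ∈ s, (3 : ℝ) ≤ d i := fun i hi => le_trans (by exact_mod_cast hp3) (hd i hi)
  have hdpos : ∀ i ∈ s, 0 < d i := fun i hi => lt_of_lt_of_le (by norm_num) (hd3 i hi)
  have hwle : ∀ i ∈ s, |w i| ≤ 283 / 200 := by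
    intro i hi
    have h := Finset.single_le_sum (f := fun i => w i ^ 2) (fun j _ => sq_nonneg _) hi
    rw [h2] at h
    have := sq_abs (w i)
    nlinarith [abs_nonneg (w i)]
  have hterm : ∀ i ∈ s, w i ^ 3 / d i ≤ 283 / 600 * w i ^ 2 := by
    intro i hi
    rw [div_le_iff₀ (hdpos i hi)]
    have e1 : w i * w i ^ 2 ≤ |w i| * w i ^ 2 :=
      mul_le_mul_of_nonneg_right (le_abs_self _) (sq_nonneg _)
    have e2 : |w i| * w i ^ 2 ≤ 283 / 200 * w i ^ 2 :=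
      mul_le_mul_of_nonneg_right (hwle i hi) (sq_nonneg _)
    have e3 : w i ^ 2 * 3 ≤ w i ^ 2 * d i := mul_le_mul_of_nonneg_left (hd3 i hi) (sq_nonneg _)
    linarith [show w i ^ 3 = w i * w i ^ 2 by ring]
  have hle : 1 - 1 / (b : ℝ) ≤ 283 / 300 := by
    rw [← h3]
    refine (Finset.sum_le_sum hterm).trans ?_
    rw [← Finset.mul_sum, h2]
    norm_num
  obtain ⟨m, hm⟩ := hb
  have hq9 : 9 ≤ q := by
    rw [hq]
    calc 9 = 3 ^ 2 := by norm_num
      _ ≤ p ^ 2 := Nat.pow_le_pow_left hp3 2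
      _ ≤ p ^ k := Nat.pow_le_pow_right (by omega) hk
  rcases lt_or_gt_of_ne hb0 with hneg | hpos
  · have hbR : (b : ℝ) < 0 := by exact_mod_cast hneg
    have : 1 / (b : ℝ) < 0 := one_div_neg.2 hbR
    linarith
  have hb18 : b < 18 := by
    by_contra hge
    have hbR : (18 : ℝ) ≤ (b : ℝ) := by exact_mod_cast not_lt.1 hge
    have : 1 / (b : ℝ) ≤ 1 / 18 := one_div_le_one_div_of_le (by norm_num) hbR
    linarith
  have hm0 : 0 < m := by
    by_contra hle'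
    have : (q : ℤ) * m ≤ 0 := mul_nonpos_of_nonneg_of_nonpos (by omega) (not_lt.1 hle')
    omega
  have hm1 : m = 1 := by
    by_contra hne
    have : (q : ℤ) * 2 ≤ q * m := mul_le_mul_of_nonneg_left (by omega) (by omega)
    omega
  subst hm1
  have hqb : q ≤ 16 := by omega
  have hp4 : p ≤ 4 := by
    by_contra hgt
    have : 25 ≤ q := by
      rw [hq]
      calc 25 = 5 ^ 2 := by norm_num
        _ ≤ p ^ 2 := Nat.pow_le_pow_left (by omega) 2
        _ ≤ p ^ k := Nat.pow_le_pow_right (by omega) hk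
    omega
  have hp3' : p = 3 := by
    rcases (show p = 3 ∨ p = 4 by omega) with h | h
    · exact h
    · subst h; norm_num at hp
  subst hp3'
  have hk2 : k = 2 := by
    by_contra hne
    have : 27 ≤ q := hq ▸ (Nat.pow_le_pow_right (by norm_num) (show 3 ≤ k by omega) : 3 ^ 3 ≤ 3 ^ k)
    omega
  have hq' : q = 9 := by rw [hq, hk2]; norm_num
  have hb10 : b = 10 := by omega
  subst hb10 hq'
  norm_num at h1 h3 hdd
  -- the case `|P| = 9`, `b = 10`
  set S := s.filter (fun i => 0 ≤ w i) with hS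
  set N := s.filter (fun i => ¬ 0 ≤ w i) with hN
  set W := ∑ i ∈ S, w i ^ 2 with hW
  have hWN : W + ∑ i ∈ N, w i ^ 2 = 2 := by
    rw [hW, hS, hN, Finset.sum_filter_add_sum_filter_not, h2]
  have hS3 : 9 / 10 ≤ ∑ i ∈ S, w i ^ 3 / d i := by
    have e : ∑ i ∈ N, w i ^ 3 / d i ≤ 0 := Finset.sum_nonpos fun i hi => by
      obtain ⟨his, hiw⟩ := Finset.mem_filter.1 hi
      refine div_nonpos_of_nonpos_of_nonneg ?_ (hdpos i his).le
      have : w i * w i ^ 2 ≤ 0 := mul_nonpos_of_nonpos_of_nonneg (not_le.1 hiw).le (sq_nonneg _)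
      linarith [show w i ^ 3 = w i * w i ^ 2 by ring]
    have e' := Finset.sum_filter_add_sum_filter_not s (fun i => 0 ≤ w i) (fun i => w i ^ 3 / d i)
    rw [← hS, ← hN] at e'
    linarith
  have hW0 : 0 ≤ W := Finset.sum_nonneg fun i _ => sq_nonneg _
  have hbound : ∑ i ∈ S, w i ^ 3 / d i ≤ Real.sqrt W * W / 3 := by
    rw [hW, Finset.mul_sum, Finset.sum_div]
    refine Finset.sum_le_sum fun i hi => ?_
    obtain ⟨his, hiw⟩ := Finset.mem_filter.1 hi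
    have hwW : w i ≤ Real.sqrt (∑ j ∈ S, w j ^ 2) := Real.le_sqrt_of_sq_le
      (Finset.single_le_sum (f := fun j => w j ^ 2) (fun j _ => sq_nonneg _) hi)
    rw [div_le_div_iff₀ (hdpos i his) (by norm_num)]
    have e1 : w i ^ 2 * (w i * 3) ≤ w i ^ 2 * (Real.sqrt (∑ j ∈ S, w j ^ 2) * d i) := by
      refine mul_le_mul_of_nonneg_left ?_ (sq_nonneg _)
      exact mul_le_mul hwW (hd3 i his) (by norm_num) (Real.sqrt_nonneg _)
    nlinarith
  have hsq := Real.sq_sqrt hW0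
  have hM : (139 : ℝ) / 100 ≤ Real.sqrt W := by
    by_contra hlt
    have h0 := Real.sqrt_nonneg W
    nlinarith [mul_le_mul (le_of_lt (not_le.1 hlt)) (le_of_lt (not_le.1 hlt)) h0
      (by norm_num : (0 : ℝ) ≤ 139 / 100)]
  have hWge : (193 : ℝ) / 100 ≤ W := by nlinarith
  have hcs := Finset.sum_mul_sq_le_sq_mul_sq N w d
  have hNw : ∑ i ∈ N, w i * d i ≤ -9 := by
    have e : 0 ≤ ∑ i ∈ S, w i * d i := Finset.sum_nonneg fun i hi =>
      mul_nonneg (Finset.mem_filter.1 hi).2 (hdpos i (Finset.mem_filter.1 hi).1).le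
    have e' := Finset.sum_filter_add_sum_filter_not s (fun i => 0 ≤ w i) (fun i => w i * d i)
    rw [← hS, ← hN] at e'
    linarith
  have hNd : ∑ i ∈ N, d i ^ 2 ≤ 585 := by
    have e := Finset.sum_le_sum_of_subset_of_nonneg (f := fun i => d i ^ 2)
      (Finset.filter_subset (fun i => ¬ 0 ≤ w i) s) (fun i _ _ => sq_nonneg _)
    rw [← hN] at e
    linarith
  have hN0 : 0 ≤ ∑ i ∈ N, w i ^ 2 := Finset.sum_nonneg fun i _ => sq_nonneg _
  have e5 : (∑ i ∈ N, w i ^ 2) * (∑ i ∈ N, d i ^ 2) ≤ 7 / 100 * 585 :=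
    mul_le_mul (by linarith) hNd (Finset.sum_nonneg fun i _ => sq_nonneg _) (by norm_num)
  nlinarith

/-- The moments of `w = (T B - d A) / (B - A)` from those of `(d, T)`. -/
theorem moments_of_eq (s : Finset ι) (T d : ι → ℝ) {a b r : ℝ} (hb : b ≠ 0) (hB : 1 + b ≠ 0)
    (hab : a ≠ b) (hd : ∀ i ∈ s, d i ≠ 0)
    (hdd : ∑ i ∈ s, d i ^ 2 = 1 + b ^ 2 + r * (1 + b) ^ 2)
    (hdt : ∑ i ∈ s, d i * T i = 1 + a * b + r * ((1 + a) * (1 + b)))
    (htt : ∑ i ∈ s, T i ^ 2 = 1 + a ^ 2 + r * (1 + a) ^ 2)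
    (h3 : ∑ i ∈ s, T i ^ 3 / d i = 1 + a ^ 3 / b + r * ((1 + a) ^ 3 / (1 + b))) :
    ∑ i ∈ s, ((T i * (1 + b) - d i * (1 + a)) / (b - a)) ^ 2 = 2 ∧
      ∑ i ∈ s, (T i * (1 + b) - d i * (1 + a)) / (b - a) * d i = 1 - b ∧
      ∑ i ∈ s, ((T i * (1 + b) - d i * (1 + a)) / (b - a)) ^ 3 / d i = 1 - 1 / b := by
  have hne : b - a ≠ 0 := sub_ne_zero.2 (Ne.symm hab)
  refine ⟨?_, ?_, ?_⟩
  · rw [Finset.sum_congr rfl (g := fun i => ((1 + b) ^ 2 / (b - a) ^ 2) * T i ^ 2 -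
      (2 * (1 + a) * (1 + b) / (b - a) ^ 2) * (d i * T i) + ((1 + a) ^ 2 / (b - a) ^ 2) * d i ^ 2)
      fun i _ => by field_simp; ring, Finset.sum_add_distrib, Finset.sum_sub_distrib,
      ← Finset.mul_sum, ← Finset.mul_sum, ← Finset.mul_sum, htt, hdt, hdd]
    field_simp
    ring
  · rw [Finset.sum_congr rfl (g := fun i => ((1 + b) / (b - a)) * (d i * T i) -
      ((1 + a) / (b - a)) * d i ^ 2)
      fun i _ => by field_simp, Finset.sum_sub_distrib,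
      ← Finset.mul_sum, ← Finset.mul_sum, hdt, hdd]
    field_simp
    ring
  · rw [Finset.sum_congr rfl (g := fun i => ((1 + b) ^ 3 / (b - a) ^ 3) * (T i ^ 3 / d i) -
      (3 * (1 + a) * (1 + b) ^ 2 / (b - a) ^ 3) * T i ^ 2 +
      (3 * (1 + a) ^ 2 * (1 + b) / (b - a) ^ 3) * (d i * T i) -
      ((1 + a) ^ 3 / (b - a) ^ 3) * d i ^ 2)
      fun i hi => by have := hd i hi; field_simp; ring, Finset.sum_sub_distrib,
      Finset.sum_add_distrib, Finset.sum_sub_distrib,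
      ← Finset.mul_sum, ← Finset.mul_sum, ← Finset.mul_sum, ← Finset.mul_sum, h3, htt, hdt, hdd]
    field_simp
    ring

end H4.ITwo
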